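import Mathlib.RingTheory.MvPolynomial.Basic
import Mathlib.Data.Finsupp.Weight
import Mathlib.LinearAlgebra.Projection
import Mathlib.LinearAlgebra.Dimension.Constructions
import Mathlib.LinearAlgebra.FiniteDimensional.Basic

/-!
# Quotients of a polynomial ring by polynomials with leading forms `X_i ^ e`

`finrank_quot_of_top`: if `g_i = X_i ^ e + (terms of degree < e)` then `k[X]/(g)` has dimension `e ^ m`.
-/

set_option autoImplicit false
universe u

namespace Groth.Agent.Vancyc.H300.TopForm

open MvPolynomial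

variable {k : Type u} [Field k] {m : ℕ}

/-- Polynomials of degree `< d`. -/
noncomputable def W (k : Type u) [Field k] (m d : ℕ) : Submodule k (MvPolynomial (Fin m) k) :=
  restrictSupport k {n | n.degree < d}

theorem mem_W {d : ℕ} {p : MvPolynomial (Fin m) k} : p ∈ W k m d ↔ ∀ s ∈ p.support, s.degree < d :=
  Iff.rfl

theorem W_mono {a b : ℕ} (h : a ≤ b) : W k m a ≤ W k m b :=
  restrictSupport_mono k fun _ hn => lt_of_lt_of_le hn h

theorem W_zero {p : MvPolynomial (Fin m) k} (hp : p ∈ W k m 0) : p = 0 := by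
  rw [mem_W] at hp
  rw [← support_eq_empty, Finset.eq_empty_iff_forall_notMem]
  intro s hs
  exact absurd (hp s hs) (Nat.not_lt_zero _)

theorem mem_W_of_totalDegree_lt {d : ℕ} {p : MvPolynomial (Fin m) k} (h : p.totalDegree < d) :
    p ∈ W k m d := by
  rw [mem_W]
  intro s hs
  exact lt_of_le_of_lt (le_totalDegree hs) h

theorem mul_mem_W {a b : ℕ} {p q : MvPolynomial (Fin m) k} (hp : p ∈ W k m a) (hq : q ∈ W k m (b + 1)) :
    p * q ∈ W k m (a + b) := by
  classical
  rw [mem_W] at *
  intro s hs
  obtain ⟨s₁, h₁, s₂, h₂, rfl⟩ := Finset.mem_add.mp (support_mul p q hs)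
  rw [map_add]
  have := hp s₁ h₁
  have := hq s₂ h₂
  omega

/-- `p` is `x^s` plus terms of smaller degree. -/
def Lead (p : MvPolynomial (Fin m) k) (s : Fin m →₀ ℕ) : Prop :=
  p - monomial s 1 ∈ W k m s.degree

theorem monomial_mem_W (s : Fin m →₀ ℕ) {d : ℕ} (h : s.degree < d) :
    (monomial s (1 : k)) ∈ W k m d := by
  rw [W, monomial_mem_restrictSupport]
  exact Or.inl h

theorem Lead.mem {p : MvPolynomial (Fin m) k} {s : Fin m →₀ ℕ} (h : Lead p s) :
    p ∈ W k m (s.degree + 1) := by
  have h1 := Submodule.add_mem _ (W_mono (Nat.le_succ _) h) (monomial_mem_W (k := k) s (Nat.lt_succ_self _))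
  rwa [sub_add_cancel] at h1

theorem Lead.mul {p q : MvPolynomial (Fin m) k} {s t : Fin m →₀ ℕ} (h : Lead p s) (h' : Lead q t) :
    Lead (p * q) (s + t) := by
  have e : p * q - monomial (s + t) 1 =
      (p - monomial s 1) * q + (q - monomial t 1) * monomial s 1 := by
    have : (monomial (s + t) (1 : k)) = monomial s 1 * monomial t 1 := by
      rw [monomial_mul, one_mul]
    rw [this]; ring
  rw [Lead, e, map_add]
  refine Submodule.add_mem _ (mul_mem_W h h'.mem) ?_
  rw [add_comm s.degree]
  exact mul_mem_W h' (monomial_mem_W s (Nat.lt_succ_self _))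

theorem Lead.one : Lead (1 : MvPolynomial (Fin m) k) 0 := by
  have : (1 : MvPolynomial (Fin m) k) - monomial 0 1 = 0 := by
    rw [sub_eq_zero]; rfl
  rw [Lead, this]
  exact Submodule.zero_mem _

theorem Lead.pow {p : MvPolynomial (Fin m) k} {s : Fin m →₀ ℕ} (h : Lead p s) (n : ℕ) :
    Lead (p ^ n) (n • s) := by
  induction n with
  | zero => rw [pow_zero, zero_smul]; exact Lead.one
  | succ n ih => rw [pow_succ, succ_nsmul]; exact ih.mul h

theorem Lead.prod {ι : Type*} (S : Finset ι) (p : ι → MvPolynomial (Fin m) k) (s : ι → Fin m →₀ ℕ)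
    (h : ∀ i ∈ S, Lead (p i) (s i)) : Lead (∏ i ∈ S, p i) (∑ i ∈ S, s i) := by
  classical
  induction S using Finset.induction_on with
  | empty => rw [Finset.prod_empty, Finset.sum_empty]; exact Lead.one
  | insert i S hi ih =>
    rw [Finset.prod_insert hi, Finset.sum_insert hi]
    exact (h i (by simp)).mul (ih fun j hj => h j (by simp [hj]))

theorem lead_X (i : Fin m) : Lead (X i : MvPolynomial (Fin m) k) (Finsupp.single i 1) := by
  have : (X i : MvPolynomial (Fin m) k) - monomial (Finsupp.single i 1) 1 = 0 := by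
    rw [sub_eq_zero]; rfl
  rw [Lead, this]
  exact Submodule.zero_mem _

section

variable {e : ℕ} {g : Fin m → MvPolynomial (Fin m) k} (hg : ∀ i, (g i - X i ^ e).totalDegree < e)
include hg

theorem lead_g (i : Fin m) : Lead (g i) (Finsupp.single i e) := by
  rw [Lead, Finsupp.degree_single, ← X_pow_eq_monomial]
  exact mem_W_of_totalDegree_lt (hg i)

/-- The modified monomials. -/
noncomputable def v (e : ℕ) (g : Fin m → MvPolynomial (Fin m) k) (s : Fin m →₀ ℕ) :
    MvPolynomial (Fin m) k := ∏ i, (X i ^ (s i % e) * g i ^ (s i / e))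

theorem lead_v (s : Fin m →₀ ℕ) : Lead (v e g s) s := by
  have h := Lead.prod Finset.univ (fun i => (X i ^ (s i % e) * g i ^ (s i / e) : MvPolynomial (Fin m) k))
    (fun i => Finsupp.single i (s i)) (fun i _ => by
      have h1 := ((lead_X (k := k) i).pow (s i % e)).mul ((lead_g hg i).pow (s i / e))
      rw [Finsupp.smul_single, Finsupp.smul_single, ← Finsupp.single_add, smul_eq_mul, smul_eq_mul,
        mul_one, mul_comm (s i / e), Nat.mod_add_div] at h1
      exact h1)
  rw [Finsupp.univ_sum_single] at h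
  exact h

/-- The triangular map. -/
noncomputable def φ (e : ℕ) (g : Fin m → MvPolynomial (Fin m) k) :
    MvPolynomial (Fin m) k →ₗ[k] MvPolynomial (Fin m) k :=
  (basisMonomials (Fin m) k).constr k (v e g)

omit hg in
theorem φ_monomial (s : Fin m →₀ ℕ) : φ e g (monomial s 1) = v e g s :=
  (basisMonomials (Fin m) k).constr_basis k _ s

theorem φ_sub_mem {d : ℕ} {p : MvPolynomial (Fin m) k} (hp : p ∈ W k m (d + 1)) :
    φ e g p - p ∈ W k m d := by
  have h1 : W k m (d + 1) ≤ (W k m d).comap (φ e g - LinearMap.id) := by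
    rw [W, restrictSupport_eq_span, Submodule.span_le]
    rintro _ ⟨s, hs, rfl⟩
    change φ e g (monomial s 1) - monomial s 1 ∈ W k m d
    rw [φ_monomial]
    exact W_mono (Nat.lt_succ_iff.mp hs) (lead_v hg s)
  exact h1 hp

theorem φ_injective : Function.Injective (φ e g) := by
  rw [injective_iff_map_eq_zero]
  intro p hp
  have h : ∀ d, p ∈ W k m d → p = 0 := by
    intro d
    induction d with
    | zero => exact W_zero
    | succ d ih =>
      intro h1
      have h2 := φ_sub_mem hg h1
      rw [hp, zero_sub, Submodule.neg_mem_iff] at h2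
      exact ih h2
  exact h _ (mem_W_of_totalDegree_lt (Nat.lt_succ_self _))

theorem φ_surjective : Function.Surjective (φ e g) := by
  have h : ∀ d, ∀ p ∈ W k m d, p ∈ LinearMap.range (φ e g) := by
    intro d
    induction d with
    | zero => intro p hp; rw [W_zero hp]; exact Submodule.zero_mem _
    | succ d ih =>
      intro p hp
      have h2 := ih _ (φ_sub_mem hg hp)
      have h3 := Submodule.sub_mem _ (LinearMap.mem_range_self (φ e g) p) h2
      rwa [sub_sub_cancel] at h3
  intro p
  exact h _ p (mem_W_of_totalDegree_lt (Nat.lt_succ_self _))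

/-- The basis of modified monomials. -/
noncomputable def bas : Module.Basis (Fin m →₀ ℕ) k (MvPolynomial (Fin m) k) :=
  (basisMonomials (Fin m) k).map
    (LinearEquiv.ofBijective (φ e g) ⟨φ_injective hg, φ_surjective hg⟩)

theorem bas_apply (s : Fin m →₀ ℕ) : bas hg s = v e g s := by
  rw [bas, Module.Basis.map_apply]
  exact φ_monomial s

theorem e_pos (i : Fin m) : 0 < e := lt_of_le_of_lt (Nat.zero_le _) (hg i)

omit hg in
theorem v_mul (he : 0 < e) (s : Fin m →₀ ℕ) (i : Fin m) :
    v e g s * g i = v e g (s + Finsupp.single i e) := by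
  classical
  rw [v, v, ← Finset.mul_prod_erase _ _ (Finset.mem_univ i),
    ← Finset.mul_prod_erase (a := i) (s := Finset.univ) (h := Finset.mem_univ i)]
  have h1 : (s + Finsupp.single i e) i = s i + e := by simp
  rw [h1, Nat.add_mod_right, Nat.add_div_right _ he, pow_succ]
  have h2 : ∏ x ∈ Finset.univ.erase i, ((X x : MvPolynomial (Fin m) k) ^ ((s + Finsupp.single i e) x % e) *
      g x ^ ((s + Finsupp.single i e) x / e)) =
      ∏ x ∈ Finset.univ.erase i, (X x ^ (s x % e) * g x ^ (s x / e)) := by
    refine Finset.prod_congr rfl fun x hx => ?_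
    have hx' : x ≠ i := Finset.ne_of_mem_erase hx
    have h3 : (s + Finsupp.single i e) x = s x := by simp [hx'.symm]
    rw [h3]
  rw [h2]
  ring

/-- The ideal generated by the `g_i` in terms of the basis. -/
theorem ideal_eq : (Ideal.span (Set.range g)).restrictScalars k =
    Submodule.span k (bas hg '' {s | ∀ i, s i < e}ᶜ) := by
  apply le_antisymm
  · intro x hx
    rw [Submodule.restrictScalars_mem, Ideal.mem_span_range_iff_exists_fun] at hx
    obtain ⟨c, rfl⟩ := hx
    refine Submodule.sum_mem _ fun i _ => ?_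
    have h1 : ∀ p : MvPolynomial (Fin m) k, p * g i ∈
        Submodule.span k (bas hg '' {s | ∀ i, s i < e}ᶜ) := by
      have h2 : (⊤ : Submodule k (MvPolynomial (Fin m) k)) ≤
          (Submodule.span k (bas hg '' {s | ∀ i, s i < e}ᶜ)).comap (LinearMap.mulRight k (g i)) := by
        rw [← (bas hg).span_eq, Submodule.span_le]
        rintro _ ⟨s, rfl⟩
        change bas hg s * g i ∈ Submodule.span k (bas hg '' {s | ∀ i, s i < e}ᶜ)
        rw [bas_apply, v_mul (e_pos hg i), ← bas_apply hg]
        refine Submodule.subset_span ⟨_, ?_, rfl⟩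
        intro h
        have := h i
        rw [Finsupp.add_apply, Finsupp.single_eq_same] at this
        omega
      exact fun p => h2 (Submodule.mem_top : p ∈ ⊤)
    exact h1 (c i)
  · rw [Submodule.span_le]
    rintro _ ⟨s, hs, rfl⟩
    rw [Set.mem_compl_iff, Set.mem_ofPred_eq, not_forall] at hs
    obtain ⟨i, hi⟩ := hs
    rw [not_lt] at hi
    have h1 : g i ∣ v e g s := by
      refine Dvd.dvd.trans ?_ (Finset.dvd_prod_of_mem _ (Finset.mem_univ i))
      exact Dvd.dvd.mul_left (dvd_pow_self _ (Nat.div_pos hi (e_pos hg i)).ne') _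
    change bas hg s ∈ Ideal.span (Set.range g)
    rw [bas_apply]
    exact Ideal.mem_of_dvd _ h1 (Ideal.subset_span ⟨i, rfl⟩)

theorem main :
    Module.Finite k (MvPolynomial (Fin m) k ⧸ Ideal.span (Set.range g)) ∧
    Module.finrank k (MvPolynomial (Fin m) k ⧸ Ideal.span (Set.range g)) = e ^ m := by
  classical
  let T : Set (Fin m →₀ ℕ) := {s | ∀ i, s i < e}
  have hc : IsCompl (Submodule.span k (bas hg '' Tᶜ)) (Submodule.span k (bas hg '' T)) := by
    refine ⟨(bas hg).linearIndependent.disjoint_span_image disjoint_compl_left, ?_⟩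
    rw [codisjoint_iff, ← Submodule.span_union, ← Set.image_union, Set.compl_union_self,
      Set.image_univ, (bas hg).span_eq]
  let w : (Fin m → Fin e) → (Fin m →₀ ℕ) := fun a => Finsupp.equivFunOnFinite.symm fun i => (a i : ℕ)
  have hwi : Function.Injective w := by
    intro a b hab
    funext i
    exact Fin.ext (DFunLike.congr_fun hab i)
  have hwr : Set.range w = T := by
    ext s
    constructor
    · rintro ⟨a, rfl⟩ i
      exact (a i).2
    · intro hs
      exact ⟨fun i => ⟨s i, hs i⟩, by ext i; rfl⟩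
  have hli : LinearIndependent k (fun a => bas hg (w a)) := (bas hg).linearIndependent.comp w hwi
  have hr : Submodule.span k (bas hg '' T) = Submodule.span k (Set.range fun a => bas hg (w a)) := by
    rw [← hwr, ← Set.range_comp]
    rfl
  let E : (MvPolynomial (Fin m) k ⧸ Ideal.span (Set.range g)) ≃ₗ[k]
      Submodule.span k (Set.range fun a => bas hg (w a)) :=
    (Submodule.Quotient.restrictScalarsEquiv k (Ideal.span (Set.range g))).symm ≪≫ₗ
      Submodule.quotEquivOfEq _ _ (ideal_eq hg) ≪≫ₗ Submodule.quotientEquivOfIsCompl _ _ hc ≪≫ₗ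
        LinearEquiv.ofEq _ _ hr
  have hf : Module.Finite k (Submodule.span k (Set.range fun a => bas hg (w a))) :=
    Module.Finite.span_of_finite k (Set.finite_range _)
  refine ⟨Module.Finite.equiv E.symm, ?_⟩
  rw [E.finrank_eq, finrank_span_eq_card hli, Fintype.card_fun, Fintype.card_fin, Fintype.card_fin]

end

/-- C1 -/
theorem finrank_quot_of_top (k : Type u) [Field k] (m e : ℕ) (g : Fin m → MvPolynomial (Fin m) k)
    (hg : ∀ i, (g i - X i ^ e).totalDegree < e) :
    Module.Finite k (MvPolynomial (Fin m) k ⧸ Ideal.span (Set.range g)) ∧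
    Module.finrank k (MvPolynomial (Fin m) k ⧸ Ideal.span (Set.range g)) = e ^ m :=
  main hg

end Groth.Agent.Vancyc.H300.TopForm
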